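import Cfsg.Agent.OM.Cov

/-!
# OM (S4894): generic and exceptional covers of the groups of Lie type (helper50)

* `CovG r p S`, `CovX r p S` : the rows for the covers with centre of order prime to `r`, divisible by `r`;
* `Xc` : the list of the exceptional rows; `BoxLoc`, `BoxPr` : two more tools.
-/

set_option autoImplicit false

namespace Cfsg.Agent.OM

open Cfsg Cfsg.Agent.OM.Lo Subgroup

/-- the row for the covers with centre of order prime to `r` -/
def CovG (r p : ℕ) (S : Type) [Group S] : Prop :=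
  ∀ (X : Type) [Group X] [Finite X] (σ : X →* S) (M : Ideal AlgInt) (Γ : Subgroup (MulAut X))
    (b : Set (IrrCharacter X)) (D : Subgroup X), Hyp p M Γ b D σ → ¬ r ∣ Nat.card (center X) → ∃ θ, Lift p Γ b θ

/-- the row for the covers with centre of order divisible by `r` -/
def CovX (r p : ℕ) (S : Type) [Group S] : Prop :=
  ∀ (X : Type) [Group X] [Finite X] (σ : X →* S) (M : Ideal AlgInt) (Γ : Subgroup (MulAut X))
    (b : Set (IrrCharacter X)) (D : Subgroup X), Hyp p M Γ b D σ → r ∣ Nat.card (center X) → ∃ θ, Lift p Γ b θ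

variable {r p : ℕ} {S T : Type} [Group S] [Group T]

theorem CovG.of_equiv (e : S ≃* T) (h : CovG r p T) : CovG r p S := fun X _ _ _ M Γ b D H => h X _ M Γ b D (H.congr e)

theorem CovX.of_equiv (e : S ≃* T) (h : CovX r p T) : CovX r p S := fun X _ _ _ M Γ b D H => h X _ M Γ b D (H.congr e)

theorem rowO_of (h : CovG r p S) (h' : CovX r p S) : RowO p S := fun X _ _ σ M Γ b D H =>
  (em _).elim (h' X σ M Γ b D H) (h X σ M Γ b D H)

theorem RowO.covX (h : RowO p S) : CovX r p S := fun X _ _ σ M Γ b D H _ => h X σ M Γ b D H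

/-- cyclic Sylow subgroups -/
theorem rowO_of_sq (h : ¬ p ^ 2 ∣ Nat.card S) : RowO p S := fun _ _ _ _ _ _ _ _ H => by
  obtain ⟨k, hk⟩ := H.exists_card
  exact (h ((pow_dvd_pow p (by omega)).trans (hk ▸ H.dvd_card))).elim

/-- the exceptional rows -/
structure Xc : Prop where
  l34 : ∀ (F : Type) [Field F] [Fintype F], Fintype.card F = 4 → CovX 2 3 (Matrix.ProjectiveSpecialLinearGroup (Fin 3) F)
  u43 : ∀ (F : Type) [Field F] [Fintype F], Fintype.card F = 9 → CovX 3 2 (PSU 4 F 3)
  u62 : ∀ (F : Type) [Field F] [Fintype F], Fintype.card F = 4 → CovX 2 3 (PSU 6 F 2)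
  s62 : ∀ (F : Type) [Field F] [Fintype F], Fintype.card F = 2 → CovX 2 3 (PSp 3 F)
  o73 : ∀ (F : Type) [Field F] [Fintype F], Fintype.card F = 3 → CovX 3 2 (POmega F (quadFormOdd 3 F))
  o82_3 : ∀ (F : Type) [Field F] [Fintype F], Fintype.card F = 2 → CovX 2 3 (POmega F (quadFormPlus 4 F))
  o82_5 : ∀ (F : Type) [Field F] [Fintype F], Fintype.card F = 2 → CovX 2 5 (POmega F (quadFormPlus 4 F))
  g23 : ∀ (F : Type) [Field F] [Fintype F], Fintype.card F = 3 → CovX 3 2 (Lie.chevG2.group F)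
  g24_3 : ∀ (F : Type) [Field F] [Fintype F], Fintype.card F = 4 → CovX 2 3 (Lie.chevG2.group F)
  g24_5 : ∀ (F : Type) [Field F] [Fintype F], Fintype.card F = 4 → CovX 2 5 (Lie.chevG2.group F)
  f42_3 : ∀ (F : Type) [Field F] [Fintype F], Fintype.card F = 2 → CovX 2 3 (Lie.chevF4.group F)
  f42_5 : ∀ (F : Type) [Field F] [Fintype F], Fintype.card F = 2 → CovX 2 5 (Lie.chevF4.group F)
  f42_7 : ∀ (F : Type) [Field F] [Fintype F], Fintype.card F = 2 → CovX 2 7 (Lie.chevF4.group F)
  e62_3 : ∀ (K : Type) [Field K] [Fintype K], Fintype.card K = 4 → CovX 2 3 (Lie.twistedE6 K 2)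
  e62_5 : ∀ (K : Type) [Field K] [Fintype K], Fintype.card K = 4 → CovX 2 5 (Lie.twistedE6 K 2)
  e62_7 : ∀ (K : Type) [Field K] [Fintype K], Fintype.card K = 4 → CovX 2 7 (Lie.twistedE6 K 2)

/-- the local form of `BoxG1` : the blocks of `C(u)` over the central character induce `b` or have defect at most `m` -/
def BoxLoc : Prop :=
  ∀ (p : ℕ) (M : Ideal AlgInt) (X : Type) [Group X] [Finite X] (Γ : Subgroup (MulAut X)) (b : Set (IrrCharacter X))
    (D : Subgroup X) (S : Type) [Group S] (σ : X →* S), Hyp p M Γ b D σ → ∀ (u : X) (m : ℕ), (∃ k, orderOf u = p ^ k) →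
    (∀ ψ : IrrCharacter (centralizer ({u} : Set X)),
      (∀ θ ∈ b, ∀ z : centralizer ({u} : Set X), (z : X) ∈ center X →
        (ψ : centralizer ({u} : Set X) → ℂ) z * (θ : X → ℂ) 1 = (θ : X → ℂ) z * (ψ : centralizer ({u} : Set X) → ℂ) 1) →
      IsInducedBlock M (centralizer ({u} : Set X)) (blockOf M (ψ : centralizer ({u} : Set X) → ℂ)) b ∨
        p ^ (Nat.card (centralizer ({u} : Set X))).factorization p ∣
          p ^ m * charDegree (ψ : centralizer ({u} : Set X) → ℂ)) →
    ∀ x : X, Commute u x → IsPRegular p x → x ∉ center X → Gd Γ x → ¬ p ^ (m + 1) ∣ Nat.card (centralizer ({u, x} : Set X))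

/-- a prime which divides neither the characteristic nor the order of the centre -/
def BoxPr : Prop :=
  ∀ (p : ℕ) [Fact p.Prime] (S : Type) [Group S] [Finite S] [IsSimpleGroup S], ¬ IsMulCommutative S → IsLieTypeChar p S →
    ∀ (X : Type) [Group X] [Finite X] (σ : X →* S), commutator X = ⊤ → Function.Surjective σ → σ.ker = center X →
      ¬ p ∣ Nat.card (center X) → ∃ r : ℕ, r.Prime ∧ r ≠ p ∧ r ∣ Nat.card S ∧ ¬ r ∣ Nat.card (center X)

end Cfsg.Agent.OM
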